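import Cfsg.Agent.FourGraph.Basic
import Cfsg.Agent.H9.SylowUtil

/-!
# The 2-generated core and connectivity of the four-group graph

Owner: helper9.
-/
set_option autoImplicit false

namespace Cfsg.Agent.FourGraph

open Subgroup Cfsg.Agent.H9
open scoped Pointwise

universe u v w

variable {G : Type u} [Group G]

/-- The `2`-generated core of `G` with respect to `S`. -/
def twoCore (S : Subgroup G) : Subgroup G :=
  ⨆ Q : {Q : Subgroup G // Q ≤ S ∧ ¬ Cfsg.PRankLE 2 1 Q},
    Subgroup.normalizer ((Q : Subgroup G) : Set G)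

theorem normalizer_le_twoCore {S Q : Subgroup G} (hQ : Q ≤ S) (h : ¬ Cfsg.PRankLE 2 1 Q) :
    Subgroup.normalizer (Q : Set G) ≤ twoCore S :=
  le_iSup (fun Q : {Q : Subgroup G // Q ≤ S ∧ ¬ Cfsg.PRankLE 2 1 Q} =>
    Subgroup.normalizer ((Q : Subgroup G) : Set G)) ⟨Q, hQ, h⟩

theorem isKleinFour_map {H : Type v} [Group H] (f : G →* H) (hf : Function.Injective f)
    {U : Subgroup G} (hU : IsKleinFour U) : IsKleinFour (U.map f) := by
  have e := U.equivMapOfInjective f hf
  exact ⟨by rw [← Nat.card_congr e.toEquiv]; exact hU.card_four,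
    by rw [← Monoid.exponent_eq_of_mulEquiv e]; exact hU.exponent_two⟩

theorem isKleinFour_conj {U : Subgroup G} (hU : IsKleinFour U) (g : G) :
    IsKleinFour (MulAut.conj g • U : Subgroup G) :=
  isKleinFour_map (MulAut.conj g).toMonoidHom (MulAut.conj g).injective hU

theorem isKleinFour_subgroupOf {U H : Subgroup G} (hU : IsKleinFour U) (h : U ≤ H) :
    IsKleinFour (U.subgroupOf H) := by
  have e := Subgroup.subgroupOfEquivOfLe h
  exact ⟨by rw [Nat.card_congr e.toEquiv]; exact hU.card_four,
    by rw [Monoid.exponent_eq_of_mulEquiv e]; exact hU.exponent_two⟩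

theorem isPGroup_of_isKleinFour {U : Subgroup G} (hU : IsKleinFour U) : IsPGroup 2 U := by
  intro x
  refine ⟨1, ?_⟩
  rw [pow_one, pow_two]
  exact IsKleinFour.mul_self x

/-- `2`-rank at least two is the same as containing a Klein four-subgroup. -/
theorem not_pRankLE_iff [Finite G] : ¬ Cfsg.PRankLE 2 1 G ↔ ∃ U : Subgroup G, IsKleinFour U := by
  constructor
  · intro h
    unfold Cfsg.PRankLE at h
    push Not at h
    obtain ⟨A, hA, hA2, hAc⟩ := h
    obtain ⟨x, hx, hx1, -⟩ := exists_mem_ne (A := A) (by omega) 1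
    obtain ⟨y, hy, hy1, hyx⟩ := exists_mem_ne (A := A) (by omega) x
    have hxx : x * x = 1 := by rw [← pow_two]; exact hA2 x hx
    have hyy : y * y = 1 := by rw [← pow_two]; exact hA2 y hy
    have hxy : x * y = y * x := congrArg Subtype.val (mul_comm' (⟨x, hx⟩ : A) ⟨y, hy⟩)
    exact ⟨fourSubgroup x y hxx hyy hxy, isKleinFour_fourSubgroup hx1 hy1 hyx.symm⟩
  · rintro ⟨U, hU⟩ h
    have := h U IsKleinFour.isMulCommutative (fun a ha => by
      rw [pow_two]; exact mul_self_of_mem hU ha)
    rw [hU.card_four] at this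
    omega

theorem not_pRankLE_of_le {A B : Subgroup G} [Finite G] (hAB : A ≤ B)
    (h : ¬ Cfsg.PRankLE 2 1 A) : ¬ Cfsg.PRankLE 2 1 B := by
  rw [not_pRankLE_iff] at h ⊢
  obtain ⟨U, hU⟩ := h
  exact ⟨U.map (Subgroup.inclusion hAB), isKleinFour_map _ (Subgroup.inclusion_injective hAB) hU⟩

theorem not_pRankLE_subgroup_iff [Finite G] {A : Subgroup G} :
    ¬ Cfsg.PRankLE 2 1 A ↔ ∃ U : Subgroup G, IsKleinFour U ∧ U ≤ A := by
  rw [not_pRankLE_iff]
  constructor
  · rintro ⟨U, hU⟩
    exact ⟨U.map A.subtype, isKleinFour_map _ A.subtype_injective hU, Subgroup.map_subtype_le _⟩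
  · rintro ⟨U, hU, hUA⟩
    exact ⟨U.subgroupOf A, isKleinFour_subgroupOf hU hUA⟩

/-- Conjugation inside `S` of subgroups of rank at least `2` is carried out by the 2-generated
core. -/
theorem mem_twoCore_of_conj_le [Finite G] (S : Sylow 2 G) (n : ℕ) : ∀ (V : Subgroup G) (g : G),
    Nat.card S - Nat.card V = n → V ≤ (S : Subgroup G) → ¬ Cfsg.PRankLE 2 1 V →
    MulAut.conj g • V ≤ (S : Subgroup G) → g ∈ twoCore (S : Subgroup G) := by
  induction n using Nat.strong_induction_on with
  | _ n ih =>
    intro V g hn hVS hV hgV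
    rcases hVS.eq_or_lt with heq | hlt
    · -- V = S
      have h1 : MulAut.conj g • V = V :=
        conj_smul_eq_of_le (by rw [← heq] at hgV; exact hgV) le_rfl
      exact normalizer_le_twoCore hVS hV (mem_normalizer_of_conj_smul_eq h1)
    -- V < S
    have hcardlt : ∀ {A B : Subgroup G}, A < B → Nat.card A < Nat.card B := fun {A B} h =>
      lt_of_le_of_ne (Subgroup.card_le_of_le h.le)
        (fun hc => h.ne (Subgroup.eq_of_le_of_card_ge h.le (by rw [hc])))
    set W : Subgroup G := MulAut.conj g • V with hW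
    have hWc : Nat.card W = Nat.card V := card_conj_smul V g
    have hWlt : W < (S : Subgroup G) := by
      refine lt_of_le_of_ne hgV (fun h => ?_)
      have h2 := hcardlt hlt
      rw [← hWc, h] at h2
      exact lt_irrefl _ h2
    have hSp : IsPGroup 2 (S : Subgroup G) := S.isPGroup'
    have hA := lt_inf_normalizer hSp hlt
    have hB := lt_inf_normalizer hSp hWlt
    set A : Subgroup G := (S : Subgroup G) ⊓ Subgroup.normalizer (V : Set G) with hAdef
    set B : Subgroup G := (S : Subgroup G) ⊓ Subgroup.normalizer (W : Set G) with hBdef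
    have hAp : IsPGroup 2 A := hSp.to_inf_left
    have hBp : IsPGroup 2 B := hSp.to_inf_left
    have hBN : MulAut.conj g⁻¹ • B ≤ Subgroup.normalizer (V : Set G) := by
      rw [conj_inv_smul_le_iff, ← normalizer_conj_smul, ← hW]
      exact inf_le_right
    obtain ⟨m, hm, T, hTN, hTp, hAT, hBT⟩ := exists_common_pgroup (N := Subgroup.normalizer (V : Set G))
      hAp (isPGroup_conj_smul g⁻¹ hBp) inf_le_right hBN
    obtain ⟨x, hx⟩ := exists_conj_smul_le_sylow hTp S
    have hcS : ∀ {A : Subgroup G}, A ≤ (S : Subgroup G) → V < A ∨ W < A →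
        Nat.card S - Nat.card A < n := by
      intro A hAS hVA
      have h1 : Nat.card V < Nat.card A := by
        rcases hVA with h | h
        · exact hcardlt h
        · rw [← hWc]; exact hcardlt h
      have h2 : Nat.card A ≤ Nat.card S := Subgroup.card_le_of_le hAS
      omega
    have hx1 : x ∈ twoCore (S : Subgroup G) := by
      refine ih _ (hcS inf_le_left (Or.inl hA)) A x rfl inf_le_left (not_pRankLE_of_le hA.le hV) ?_
      exact le_trans (Subgroup.pointwise_smul_le_pointwise_smul_iff.2 hAT) hx
    have hWr : ¬ Cfsg.PRankLE 2 1 W := by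
      rw [not_pRankLE_iff] at hV ⊢
      obtain ⟨U, hU⟩ := hV
      exact ⟨_, isKleinFour_map (Subgroup.equivSMul (MulAut.conj g) V).toMonoidHom
        (Subgroup.equivSMul (MulAut.conj g) V).injective hU⟩
    have hx2 : x * m * g⁻¹ ∈ twoCore (S : Subgroup G) := by
      refine ih _ (hcS inf_le_left (Or.inr hB)) B _ rfl inf_le_left (not_pRankLE_of_le hB.le hWr) ?_
      rw [← conj_smul_smul, ← conj_smul_smul]
      exact le_trans (Subgroup.pointwise_smul_le_pointwise_smul_iff.2 hBT) hx
    have hm1 : m ∈ twoCore (S : Subgroup G) := normalizer_le_twoCore hVS hV hm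
    have : g = (x * m * g⁻¹)⁻¹ * x * m := by group
    rw [this]
    exact mul_mem (mul_mem (inv_mem hx2) hx1) hm1

theorem rel_conj {A B : Subgroup G} (h : Rel A B) (g : G) :
    Rel (MulAut.conj g • A) (MulAut.conj g • B) := by
  refine ⟨isKleinFour_conj h.1 g, isKleinFour_conj h.2.1 g, ?_⟩
  rintro _ ⟨a, ha, rfl⟩ _ ⟨b, hb, rfl⟩
  show MulAut.conj g a * MulAut.conj g b = MulAut.conj g b * MulAut.conj g a
  rw [← map_mul, h.2.2 a ha b hb, map_mul]

theorem reflTransGen_conj {A B : Subgroup G} (h : Relation.ReflTransGen Rel A B) (g : G) :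
    Relation.ReflTransGen Rel (MulAut.conj g • A) (MulAut.conj g • B) := by
  induction h with
  | refl => exact Relation.ReflTransGen.refl
  | tail _ h2 ih => exact ih.tail (rel_conj h2 g)

theorem reflTransGen_symm {A B : Subgroup G} (h : Relation.ReflTransGen Rel A B) :
    Relation.ReflTransGen Rel B A := by
  induction h with
  | refl => exact Relation.ReflTransGen.refl
  | tail _ h2 ih => exact (Relation.ReflTransGen.single h2.symm).trans ih

theorem reflTransGen_of_subgroup {H : Subgroup G} (hH : Cfsg.IsFourConnected H)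
    {U V : Subgroup G} (hU : IsKleinFour U) (hV : IsKleinFour V) (hUH : U ≤ H) (hVH : V ≤ H) :
    Relation.ReflTransGen Rel U V := by
  have h1 := (isFourConnected_iff.1 hH) _ _ (isKleinFour_subgroupOf hU hUH)
    (isKleinFour_subgroupOf hV hVH)
  have h2 : ∀ A B : Subgroup H, Relation.ReflTransGen Rel A B →
      Relation.ReflTransGen Rel (A.map H.subtype) (B.map H.subtype) := by
    intro A B h
    induction h with
    | refl => exact Relation.ReflTransGen.refl
    | tail _ h2 ih =>
      refine ih.tail ⟨isKleinFour_map _ H.subtype_injective h2.1,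
        isKleinFour_map _ H.subtype_injective h2.2.1, ?_⟩
      rintro _ ⟨a, ha, rfl⟩ _ ⟨b, hb, rfl⟩
      exact congrArg Subtype.val (h2.2.2 a ha b hb)
  have h3 := h2 _ _ h1
  rwa [Subgroup.subgroupOf_map_subtype, Subgroup.subgroupOf_map_subtype, inf_eq_left.2 hUH,
    inf_eq_left.2 hVH] at h3

theorem isFourConnected_iff_twoCore [Finite G] (h2 : ¬ Cfsg.PRankLE 2 1 G) (S : Sylow 2 G)
    (hS : Cfsg.IsFourConnected (S : Subgroup G)) :
    Cfsg.IsFourConnected G ↔ twoCore (S : Subgroup G) = ⊤ := by
  obtain ⟨U0, hU0, hx0⟩ : ∃ U0 : Subgroup G, IsKleinFour U0 ∧ U0 ≤ (S : Subgroup G) := by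
    obtain ⟨U1, hU1⟩ := not_pRankLE_iff.1 h2
    obtain ⟨x0, hx0⟩ := exists_conj_smul_le_sylow (isPGroup_of_isKleinFour hU1) S
    exact ⟨_, isKleinFour_conj hU1 x0, hx0⟩
  have hrank : ∀ {U : Subgroup G}, IsKleinFour U → ¬ Cfsg.PRankLE 2 1 U := fun {U} hU =>
    not_pRankLE_subgroup_iff.2 ⟨U, hU, le_rfl⟩
  constructor
  · intro hG
    rw [isFourConnected_iff] at hG
    rw [eq_top_iff]
    intro g _
    have hchain := hG U0 (MulAut.conj g • U0) hU0 (isKleinFour_conj hU0 g)
    have key : ∀ V : Subgroup G, Relation.ReflTransGen Rel U0 V →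
        ∀ h : G, MulAut.conj h • V ≤ (S : Subgroup G) → h ∈ twoCore (S : Subgroup G) := by
      intro V hV
      induction hV with
      | refl =>
        intro h hh
        exact mem_twoCore_of_conj_le S _ U0 h rfl hx0 (hrank hU0) hh
      | @tail V V' _ h2 ih =>
        intro h hh
        have hVp := isPGroup_of_isKleinFour h2.1
        have hV'p := isPGroup_of_isKleinFour h2.2.1
        have hnorm : V ≤ Subgroup.normalizer (V' : Set G) := by
          refine le_trans ?_ (Subgroup.centralizer_le_normalizer _)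
          intro a ha
          rw [Subgroup.mem_centralizer_iff]
          intro b hb
          exact (h2.2.2 a ha b hb).symm
        have hsup : IsPGroup 2 (V ⊔ V' : Subgroup G) := hVp.to_sup_of_normal_right' hV'p hnorm
        obtain ⟨y, hy⟩ := exists_conj_smul_le_sylow hsup S
        have hy1 : y ∈ twoCore (S : Subgroup G) :=
          ih y (le_trans (Subgroup.pointwise_smul_le_pointwise_smul_iff.2 le_sup_left) hy)
        have hy2 : MulAut.conj y • V' ≤ (S : Subgroup G) :=
          le_trans (Subgroup.pointwise_smul_le_pointwise_smul_iff.2 le_sup_right) hy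
        have h3 : h * y⁻¹ ∈ twoCore (S : Subgroup G) := by
          refine mem_twoCore_of_conj_le S _ (MulAut.conj y • V') _ rfl hy2
            (hrank (isKleinFour_conj h2.2.1 y)) ?_
          rw [conj_smul_smul, inv_mul_cancel_right]
          exact hh
        have : h = (h * y⁻¹) * y := by group
        rw [this]
        exact mul_mem h3 hy1
    have h4 := key _ hchain g⁻¹ (by rw [conj_smul_smul, inv_mul_cancel, conj_one_smul]; exact hx0)
    rw [← inv_inv g]
    exact inv_mem h4
  · intro htop
    -- stabilizer of the component of U0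
    let D : Subgroup G :=
      { carrier := {g | Relation.ReflTransGen Rel U0 (MulAut.conj g • U0)}
        one_mem' := by
          show Relation.ReflTransGen Rel U0 (MulAut.conj (1 : G) • U0)
          rw [conj_one_smul]
        mul_mem' := by
          intro a b ha hb
          show Relation.ReflTransGen Rel U0 (MulAut.conj (a * b) • U0)
          have h1 := reflTransGen_conj hb a
          rw [conj_smul_smul] at h1
          exact ha.trans h1
        inv_mem' := by
          intro a ha
          show Relation.ReflTransGen Rel U0 (MulAut.conj a⁻¹ • U0)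
          have h1 := reflTransGen_conj ha a⁻¹
          rw [conj_smul_smul, inv_mul_cancel, conj_one_smul] at h1
          exact reflTransGen_symm h1 }
    have hD : D = ⊤ := by
      rw [eq_top_iff, ← htop]
      refine iSup_le ?_
      rintro ⟨Q, hQS, hQ⟩ g hg
      have hg : g ∈ Subgroup.normalizer (Q : Set G) := hg
      obtain ⟨U, hU, hUQ⟩ := not_pRankLE_subgroup_iff.1 hQ
      have h1 : Relation.ReflTransGen Rel U0 U :=
        reflTransGen_of_subgroup hS hU0 hU hx0 (le_trans hUQ hQS)
      have h2 : MulAut.conj g • U ≤ Q := by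
        rw [← conj_smul_eq_of_mem_normalizer hg]
        exact Subgroup.pointwise_smul_le_pointwise_smul_iff.2 hUQ
      have h3 : Relation.ReflTransGen Rel U0 (MulAut.conj g • U) :=
        reflTransGen_of_subgroup hS hU0 (isKleinFour_conj hU g) hx0 (le_trans h2 hQS)
      exact h3.trans (reflTransGen_symm (reflTransGen_conj h1 g))
    have hconn : ∀ U : Subgroup G, IsKleinFour U → Relation.ReflTransGen Rel U0 U := by
      intro U hU
      obtain ⟨g, hg⟩ := exists_conj_smul_le_sylow (isPGroup_of_isKleinFour hU) S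
      have h1 : Relation.ReflTransGen Rel U0 (MulAut.conj g • U) :=
        reflTransGen_of_subgroup hS hU0 (isKleinFour_conj hU g) hx0 hg
      have h2 := reflTransGen_conj h1 g⁻¹
      rw [conj_smul_smul, inv_mul_cancel, conj_one_smul] at h2
      have h3 : g⁻¹ ∈ D := by rw [hD]; trivial
      exact Relation.ReflTransGen.trans h3 h2
    rw [isFourConnected_iff]
    intro U V hU hV
    exact (reflTransGen_symm (hconn U hU)).trans (hconn V hV)

end Cfsg.Agent.FourGraph
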